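import Groth.Prelude.Def_AlgSpRep
import Groth.Agent.AlgSpDec.LimFppfLocal
import Groth.Agent.AlgStLib.FppfSite
import Mathlib.AlgebraicGeometry.Morphisms.UniversallyOpen

/-!
# A Zariski sheaf covered by subsheaves whose inclusions are representable by algebraic spaces is an fppf sheaf
-/

set_option autoImplicit false
set_option backward.isDefEq.respectTransparency false
set_option backward.isDefEq.respectTransparency.types false

noncomputable section

universe u v

open CategoryTheory CategoryTheory.Limits AlgebraicGeometry Opposite AlgSp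
open Groth.Agent.AlgSpDec

namespace Groth.Agent.FppfCrit13

variable {S : Scheme.{u}}

theorem res_res {G : PSp S} {A B C : Over S} (f : A ⟶ B) (g : B ⟶ C) (x : G.obj (op C)) :
    G.map f.op (G.map g.op x) = G.map (f ≫ g).op x := by
  rw [op_comp]
  exact (ConcreteCategory.congr_hom (G.map_comp g.op f.op) x).symm

/-- An open subscheme over `S`. -/
def openOver (T : Over S) (O : T.left.Opens) : Over S := Over.mk (O.ι ≫ T.hom)

/-- Its inclusion. -/
def openInc (T : Over S) (O : T.left.Opens) : openOver T O ⟶ T := Over.homMk O.ι rfl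

/-- A flat morphism locally of finite presentation covers its open image. -/
theorem exists_image {Y T : Over S} (g : Y ⟶ T) (hf : Flat g.left) (hp : LocallyOfFinitePresentation g.left) :
    ∃ (O : T.left.Opens) (g₀ : Y ⟶ openOver T O), g₀ ≫ openInc T O = g ∧ AlgSpLib.fppf g₀.left ∧
      ∀ y : ↥Y.left, g.left y ∈ O := by
  let O : T.left.Opens := ⟨Set.range g.left, g.left.isOpenMap.isOpen_range⟩
  have hr : Set.range g.left ⊆ Set.range O.ι := by rw [Scheme.Opens.range_ι]; exact subset_rfl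
  let h₀ : Y.left ⟶ O.toScheme := IsOpenImmersion.lift O.ι g.left hr
  have hfac : h₀ ≫ O.ι = g.left := IsOpenImmersion.lift_fac O.ι g.left hr
  have w : 𝟙 Y.left ≫ g.left = h₀ ≫ O.ι := by rw [Category.id_comp, hfac]
  have sq : IsPullback (𝟙 Y.left) h₀ g.left O.ι :=
    IsPullback.of_isLimit' ⟨w⟩ (PullbackCone.IsLimit.mk w (fun c => c.fst) (fun c => Category.comp_id _)
      (fun c => by rw [← cancel_mono O.ι, Category.assoc, hfac, c.condition])
      (fun c k hk _ => by rwa [Category.comp_id] at hk))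
  haveI : Flat h₀ := MorphismProperty.of_isPullback sq hf
  haveI : LocallyOfFinitePresentation h₀ := MorphismProperty.of_isPullback sq hp
  haveI : Surjective h₀ := ⟨fun p => by
    obtain ⟨y, hy⟩ := (show (p.1 : ↥T.left) ∈ Set.range g.left from p.2)
    refine ⟨y, O.ι.isOpenEmbedding.injective ?_⟩
    exact ((Scheme.Hom.comp_apply h₀ O.ι y).symm.trans
      ((congrArg (fun k : Y.left ⟶ T.left => k y) hfac).trans hy))⟩
  refine ⟨O, Over.homMk h₀ (by change h₀ ≫ O.ι ≫ T.hom = Y.hom; rw [← Category.assoc, hfac, Over.w g]),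
    Over.OverMorphism.ext hfac, AlgSpLib.fppf_of h₀, fun y => ⟨y, rfl⟩⟩

/-- Open subschemes covering the points give a covering sieve. -/
theorem mem_J_openInc {T : Over S} {κ : Type u} (O : κ → T.left.Opens) (hO : ∀ x : ↥T.left, ∃ k, x ∈ O k)
    (R : Sieve T) (hR : ∀ k, R (openInc T (O k))) : R ∈ J S T := by
  haveI : ∀ k, Flat (openInc T (O k)).left := fun k => inferInstanceAs (Flat (O k).ι)
  haveI : ∀ k, LocallyOfFinitePresentation (openInc T (O k)).left :=
    fun k => inferInstanceAs (LocallyOfFinitePresentation (O k).ι)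
  refine mem_J_of_jointly (fun k => openInc T (O k)) (fun x => ?_) R hR
  obtain ⟨k, hk⟩ := hO x
  exact ⟨k, ⟨x, hk⟩, rfl⟩

theorem isSheafFor_openInc {F : PSp S} (h1 : Presheaf.IsSheaf (QuotSh.J Scheme.zariskiPrecoverage S) F)
    {T : Over S} {κ : Type u} (O : κ → T.left.Opens) (hO : ∀ x : ↥T.left, ∃ k, x ∈ O k) :
    (Presieve.ofArrows (fun k => openOver T (O k)) (fun k => openInc T (O k))).IsSheafFor F := by
  refine (Presieve.isSheafFor_iff_generate _).2 ((isSheaf_iff_isSheaf_of_type _ _).1 h1 _ ?_)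
  rw [GrothendieckTopology.mem_over_iff]
  have hm : Presieve.ofArrows (fun k => (openOver T (O k)).left) (fun k => (openInc T (O k)).left) ∈
      Scheme.precoverage @IsOpenImmersion T.left :=
    (Scheme.ofArrows_mem_precoverage_iff _).2
      ⟨fun x => (hO x).elim fun k hk => ⟨k, ⟨x, hk⟩, rfl⟩, fun k => inferInstanceAs (IsOpenImmersion (O k).ι)⟩
  refine GrothendieckTopology.superset_covering _ ?_ (Precoverage.generate_mem_toGrothendieck hm)
  rw [Sieve.generate_le_iff]
  rintro _ _ ⟨k⟩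
  rw [Sieve.overEquiv_iff]
  exact Sieve.le_generate _ _ _ (Presieve.ofArrows.mk k)

variable {F : PSp S} {ι : Type v} {Fi : ι → PSp S} {m : ∀ i, Fi i ⟶ F}

theorem injective_app [∀ i, Mono (m i)] (i : ι) (T : (Over S)ᵒᵖ) : Function.Injective ((m i).app T) :=
  (mono_iff_injective _).1 (inferInstance : Mono ((m i).app T))

theorem exists_descend_mem [∀ i, Mono (m i)] (hb : ∀ i, RepBySp (m i)) {U Y : Over S} (g₀ : Y ⟶ U)
    (hg : AlgSpLib.fppf g₀.left) (i : ι) (a : F.obj (op U)) (z : (Fi i).obj (op Y))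
    (hz : (m i).app (op Y) z = F.map g₀.op a) : ∃ y, (m i).app (op U) y = a := by
  let ξ : (pyon S).obj U ⟶ F := uliftYonedaEquiv.symm a
  obtain ⟨hP, -⟩ := hb i ξ (pullback.fst (m i) ξ) (pullback.snd (m i) ξ) (IsPullback.of_hasPullback _ _)
  let P : PSp S := pullback (m i) ξ
  let q : (pyon S).obj Y ⟶ P := pullback.lift (uliftYonedaEquiv.symm z) ((pyon S).map g₀) (by
    apply uliftYonedaEquiv.injective
    rw [uliftYonedaEquiv_comp, Equiv.apply_symm_apply, hz]
    change F.map g₀.op a = uliftYonedaEquiv.{u + 1} (uliftYoneda.{u + 1}.map g₀ ≫ uliftYonedaEquiv.{u + 1}.symm a)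
    refine Eq.trans ?_ (uliftYonedaEquiv_naturality.{u + 1} (X := op U) (Y := op Y) (F := F) (uliftYonedaEquiv.{u + 1}.symm a) g₀.op)
    rw [Equiv.apply_symm_apply])
  let p : P.obj (op Y) := uliftYonedaEquiv q
  have hsnd : ∀ V : (Over S)ᵒᵖ, Function.Injective ((pullback.snd (m i) ξ).app V) := fun V =>
    (mono_iff_injective _).1 (inferInstance : Mono ((pullback.snd (m i) ξ).app V))
  have hp : (pullback.snd (m i) ξ).app (op Y) p = ULift.up g₀ := by
    rw [← uliftYonedaEquiv_comp]
    change uliftYonedaEquiv (q ≫ pullback.snd (m i) ξ) = _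
    rw [pullback.lift_snd]
    change (ULift.up (𝟙 Y ≫ g₀) : ULift (Y ⟶ U)) = _
    rw [Category.id_comp]
  have hcov := AlgSpLib.mem_J_of_fppf g₀ hg (Sieve.generate (Presieve.singleton g₀))
    (Sieve.le_generate _ _ _ (Presieve.singleton_self _))
  have hPs := (Presieve.isSheafFor_iff_generate _).2 ((isSheaf_iff_isSheaf_of_type _ _).1 hP _ hcov)
  obtain ⟨t, ht, -⟩ := Presieve.isSheafFor_singleton.1 hPs p fun {W} a b hab => by
    refine hsnd (op W) ?_
    refine (NatTrans.naturality_apply (pullback.snd (m i) ξ) a.op p).trans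
      (Eq.trans ?_ (NatTrans.naturality_apply (pullback.snd (m i) ξ) b.op p).symm)
    rw [hp]
    exact congrArg ULift.up hab
  let s : U ⟶ U := ((pullback.snd (m i) ξ).app (op U) t).down
  have hs : g₀ ≫ s = g₀ := by
    have h := (NatTrans.naturality_apply (pullback.snd (m i) ξ) g₀.op t).symm
    rw [ht, hp] at h
    exact congrArg ULift.down h
  have hid : s = 𝟙 U := by
    have hU : Presieve.IsSheaf (J S) (yoneda.obj U) :=
      GrothendieckTopology.Subcanonical.isSheaf_of_isRepresentable _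
    refine ((Presieve.isSheafFor_iff_generate _).2 (hU _ hcov)).isSeparatedFor.ext ?_
    rintro _ _ ⟨⟩
    exact hs.trans (Category.comp_id g₀).symm
  refine ⟨(pullback.fst (m i) ξ).app (op U) t, ?_⟩
  refine (ConcreteCategory.congr_hom (congrArg (fun k : P ⟶ F => k.app (op U)) (pullback.condition (f := m i) (g := ξ))) t).trans ?_
  change F.map s.op a = a
  rw [hid, op_id]
  exact ConcreteCategory.congr_hom (F.map_id (op U)) a

variable (h1 : Presheaf.IsSheaf (QuotSh.J Scheme.zariskiPrecoverage S) F) [∀ i, Mono (m i)]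
  (ha : ∀ i, Presheaf.IsSheaf (J S) (Fi i)) (hb : ∀ i, RepBySp (m i))
  (hc : ∀ (T : Over S) (x : F.obj (op T)), ∃ R ∈ (J S) T,
    ∀ ⦃T' : Over S⦄ (f : T' ⟶ T), R.arrows f → ∃ i, F.map f.op x ∈ Set.range ((m i).app (op T')))

include h1 ha hb hc in
theorem eq_of_local {T : Over S} (a b : F.obj (op T)) {R : Sieve T} (hR : R ∈ J S T)
    (h : ∀ ⦃Y : Over S⦄ (f : Y ⟶ T), R f → F.map f.op a = F.map f.op b) : a = b := by
  obtain ⟨Ra, hRa, hRa'⟩ := hc T a
  obtain ⟨κ, V, v, hf, hp, hs, hv⟩ := AlgStLib.exists_fppf_of_mem_J ((J S).intersection_covering hR hRa)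
  choose O g₀ hg₀ hgf hmem using fun k => exists_image (v k) (hf k) (hp k)
  refine (isSheafFor_openInc h1 O fun x => ?_).isSeparatedFor.ext ?_
  · obtain ⟨k, y, hy⟩ := hs x
    exact ⟨k, hy ▸ hmem k y⟩
  rintro _ _ ⟨k⟩
  obtain ⟨i, z, hz⟩ := hRa' (v k) (hv k).2
  have hza : (m i).app (op (V k)) z = F.map (g₀ k).op (F.map (openInc T (O k)).op a) := by
    rw [res_res, hg₀]
    exact hz
  have hzb : (m i).app (op (V k)) z = F.map (g₀ k).op (F.map (openInc T (O k)).op b) := by
    rw [res_res, hg₀]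
    exact hz.trans (h (v k) (hv k).1)
  obtain ⟨y, hy⟩ := exists_descend_mem hb (g₀ k) (hgf k) i _ z hza
  obtain ⟨y', hy'⟩ := exists_descend_mem hb (g₀ k) (hgf k) i _ z hzb
  rw [← hy, ← hy']
  refine congrArg _ ?_
  have hcov := AlgSpLib.mem_J_of_fppf (g₀ k) (hgf k) (Sieve.generate (Presieve.singleton (g₀ k)))
    (Sieve.le_generate _ _ _ (Presieve.singleton_self _))
  refine ((Presieve.isSheafFor_iff_generate _).2
    ((isSheaf_iff_isSheaf_of_type _ _).1 (ha i) _ hcov)).isSeparatedFor.ext ?_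
  rintro _ _ ⟨⟩
  refine injective_app (m := m) i _ ?_
  rw [NatTrans.naturality_apply, NatTrans.naturality_apply, hy, hy', ← hza, ← hzb]

include h1 ha hb hc in
theorem exists_value {T : Over S} (R : Sieve T) (x : Presieve.FamilyOfElements F R.arrows) (hx : x.Compatible)
    (hR : R ∈ J S T) {Y : Over S} (g : Y ⟶ T) (hg : R g) (i : ι) (z : (Fi i).obj (op Y))
    (hz : (m i).app (op Y) z = x g hg) {O : T.left.Opens} (g₀ : Y ⟶ openOver T O)
    (hg₀ : g₀ ≫ openInc T O = g) (hgf : AlgSpLib.fppf g₀.left) :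
    ∃ y : F.obj (op (openOver T O)), ∀ (W : Over S) (h : W ⟶ openOver T O) (hh : R (h ≫ openInc T O)),
      F.map h.op y = x (h ≫ openInc T O) hh := by
  have hcov := AlgSpLib.mem_J_of_fppf g₀ hgf (Sieve.generate (Presieve.singleton g₀))
    (Sieve.le_generate _ _ _ (Presieve.singleton_self _))
  obtain ⟨t, ht, -⟩ := Presieve.isSheafFor_singleton.1
    ((Presieve.isSheafFor_iff_generate _).2 ((isSheaf_iff_isSheaf_of_type _ _).1 (ha i) _ hcov)) z
    fun {W} a b hab => by
      refine injective_app (m := m) i _ ?_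
      rw [NatTrans.naturality_apply, NatTrans.naturality_apply, hz]
      exact hx a b hg hg (by rw [← hg₀, ← Category.assoc, ← Category.assoc, hab])
  refine ⟨(m i).app _ t, fun W h hh => eq_of_local h1 ha hb hc _ _ ((J S).pullback_stable h hcov) ?_⟩
  intro W' k hk
  obtain ⟨Y', c, d, hd, hcd⟩ := hk
  cases hd
  rw [res_res, ← hcd, ← res_res, ← NatTrans.naturality_apply, ht, hz]
  exact hx c k hg hh (by rw [← hg₀, ← Category.assoc, hcd, Category.assoc])

include h1 ha hb hc in
/-- The criterion. -/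
theorem isSheaf : Presheaf.IsSheaf (J S) F := by
  rw [isSheaf_iff_isSheaf_of_type]
  intro T R hR x hx
  let D : Sieve T :=
    { arrows := fun Y f => ∃ hf : R f, ∃ i, x f hf ∈ Set.range ((m i).app (op Y))
      downward_closed := by
        rintro Y Y' f ⟨hf, i, z, hz⟩ c
        refine ⟨R.downward_closed hf c, i, (Fi i).map c.op z, ?_⟩
        rw [NatTrans.naturality_apply, hz]
        exact (hx.to_sieveCompatible f c hf).symm }
  have hD : D ∈ J S T := by
    refine (J S).transitive hR D fun Y f hf => ?_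
    obtain ⟨Rf, hRf, hRf'⟩ := hc Y (x f hf)
    refine (J S).superset_covering (fun Y' c hc' => ?_) hRf
    obtain ⟨i, z, hz⟩ := hRf' c hc'
    exact ⟨R.downward_closed hf c, i, z, hz.trans (hx.to_sieveCompatible f c hf).symm⟩
  obtain ⟨κ, V, v, hfl, hp, hs, hv⟩ := AlgStLib.exists_fppf_of_mem_J hD
  choose O g₀ hg₀ hgf hmem using fun k => exists_image (v k) (hfl k) (hp k)
  have hO : ∀ p : ↥T.left, ∃ k, p ∈ O k := fun p => by
    obtain ⟨k, y, hy⟩ := hs p
    exact ⟨k, hy ▸ hmem k y⟩
  choose hvR i z hz using hv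
  choose y hy using fun k => exists_value h1 ha hb hc R x hx hR (v k) (hvR k) (i k) (z k) (hz k)
    (g₀ k) (hg₀ k) (hgf k)
  obtain ⟨t, ht, -⟩ := (Presieve.isSheafFor_arrows_iff _ _).1 (isSheafFor_openInc h1 O hO) y fun p q W a b hab =>
    eq_of_local h1 ha hb hc _ _ ((J S).pullback_stable (a ≫ openInc T (O p)) hR) fun W' c hc' => by
      have hc'' : R ((c ≫ a) ≫ openInc T (O p)) := by rw [Category.assoc]; exact hc'
      have hc3 : R ((c ≫ b) ≫ openInc T (O q)) := by rw [Category.assoc, ← hab]; exact hc'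
      rw [res_res, res_res, hy p _ _ hc'', hy q _ _ hc3]
      congr 1
      rw [Category.assoc, Category.assoc, hab]
  refine ⟨t, fun W f hf => ?_, fun t' ht' => eq_of_local h1 ha hb hc t' t hR fun W f hf => ?_⟩
  rotate_left
  · rw [ht' f hf]
    refine (eq_of_local h1 ha hb hc _ _ ((J S).pullback_stable f
      (mem_J_openInc O hO (Sieve.ofArrows _ (fun k => openInc T (O k))) fun k => Sieve.ofArrows_mk _ _ k)) ?_).symm
    intro W' c hc'
    obtain ⟨k, b, hb'⟩ := (Sieve.mem_ofArrows_iff _ _ _).1 hc'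
    have hbR : R (b ≫ openInc T (O k)) := by rw [← hb']; exact R.downward_closed hf c
    rw [res_res, hb', ← res_res, ht k, hy k _ b hbR, ← hx.to_sieveCompatible f c hf]
    congr 1
    exact hb'.symm
  · refine eq_of_local h1 ha hb hc _ _ ((J S).pullback_stable f
      (mem_J_openInc O hO (Sieve.ofArrows _ (fun k => openInc T (O k))) fun k => Sieve.ofArrows_mk _ _ k)) ?_
    intro W' c hc'
    obtain ⟨k, b, hb'⟩ := (Sieve.mem_ofArrows_iff _ _ _).1 hc'
    have hbR : R (b ≫ openInc T (O k)) := by rw [← hb']; exact R.downward_closed hf c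
    rw [res_res, hb', ← res_res, ht k, hy k _ b hbR, ← hx.to_sieveCompatible f c hf]
    congr 1
    exact hb'.symm

end Groth.Agent.FppfCrit13

end
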